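import Cfsg.Agent.H40.J4.Main
import Cfsg.Agent.H45.J4Main

/-!
The trivial multiplier of the presented Janko group J4 from its finiteness.
-/

set_option autoImplicit false
set_option maxRecDepth 100000

namespace Cfsg.Agent.H40.J4

open Cfsg Cfsg.Agent.Golay Cfsg.Agent.H45.J4Main

theorem gTab_perm : ∀ (c : Bool) (i : Fin 24),
    (if c then yPerm else xPerm) (pt ((gTab c).getD i.1 0)) = pt i.1 ∧ (gTab c).getD i.1 0 < 24 := by
  decide +kernel

theorem idx_pt' : ∀ p : GolayPt, pt (idx p) = p := by decide +kernel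

theorem el_fold : ∀ (w : List Bool) (i : ℕ), i < 24 →
    el xPerm yPerm w (pt (w.foldl (fun j c => (gTab c).getD j 0) i)) = pt i
  | [], i, _ => rfl
  | c :: w, i, hi => by
    obtain ⟨h1, h2⟩ := gTab_perm c ⟨i, hi⟩
    show ((if c then yPerm else xPerm) * el xPerm yPerm w) _ = _
    rw [List.foldl_cons, Equiv.Perm.mul_apply, el_fold w _ h2]
    exact h1

theorem ev_eq (w : List Bool) :
    ev w = (List.range 24).map fun i => w.foldl (fun j c => (gTab c).getD j 0) i := by
  suffices ∀ (w : List Bool) (p : List ℕ),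
      w.foldl (fun p c => p.map fun i => (gTab c).getD i 0) p =
        p.map fun i => w.foldl (fun j c => (gTab c).getD j 0) i from this w _
  intro w
  induction w with
  | nil => intro p; simp
  | cons c w ih => intro p; rw [List.foldl_cons, ih, List.map_map]; rfl

theorem el_perm_eq {v w : List Bool} (h : ev v = ev w) :
    el xPerm yPerm v = el xPerm yPerm w := by
  have key : ∀ i < 24, v.foldl (fun j c => (gTab c).getD j 0) i =
      w.foldl (fun j c => (gTab c).getD j 0) i := fun i hi => by
    rw [ev_eq, ev_eq, List.map_inj_left] at h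
    exact h i (List.mem_range.2 hi)
  have h1 : (el xPerm yPerm v)⁻¹ = (el xPerm yPerm w)⁻¹ := by
    refine Equiv.ext fun p => ?_
    have ev1 := el_fold v (idx p) (idx_lt p)
    have ev2 := el_fold w (idx p) (idx_lt p)
    rw [idx_pt'] at ev1 ev2
    have e : ∀ (g : Equiv.Perm GolayPt) (q : GolayPt), g q = p → g⁻¹ p = q := fun g q hq => by
      rw [← hq, Equiv.Perm.coe_inv, Equiv.symm_apply_apply]
    rw [e _ _ ev1, e _ _ ev2, key _ (idx_lt p)]
  exact inv_injective h1

/-- The multiplier of the presented Janko group J4 is trivial, once it is finite. -/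
theorem hasTrivialMultiplier_of_finite [Finite Spor.J4] :
    HasCyclicSchurMultiplier Spor.J4 1 := by
  obtain ⟨phi, -, hx, hy, -⟩ := exists_embedding
  have hev : ∀ v w, ev v = ev w →
      el (⟨xPerm, xPerm_mem⟩ : M24) ⟨yPerm, yPerm_mem⟩ v =
        el (⟨xPerm, xPerm_mem⟩ : M24) ⟨yPerm, yPerm_mem⟩ w := fun v w h => by
    refine Subtype.ext ?_
    have hm := fun u => map_el M24.subtype (⟨xPerm, xPerm_mem⟩ : M24) ⟨yPerm, yPerm_mem⟩ u
    exact (hm v).trans ((el_perm_eq h).trans (hm w).symm)
  refine hasTrivialMultiplier (P := M24) ?_ Cfsg.Agent.H94.Mult.hasTrivialMultiplier_M24 phi _ _ hx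
    hy hev
  obtain ⟨e, -, -⟩ := exists_iso
  rw [H74.Schur.isPerfect_iff, commutator_def,
    ← Subgroup.map_top_of_surjective e.toMonoidHom e.surjective, ← Subgroup.map_commutator,
    ← commutator_def, gam_perfect]

end Cfsg.Agent.H40.J4
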