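/-! Generated words for the defect identities of the presented Janko group J4. -/

set_option autoImplicit false

namespace Cfsg.Agent.H40.J4

/-- The word of the second element centralised by `t`. -/
def wWord : List Bool := [true, false, true, false, true, true, false, true, true, false, true, false, true, false, true]

/-- The conjugating word of the first relation with `t`. -/
def kOne : List Bool := [true, false, true, true, false, true, false, true, true, false]

/-- The conjugating word of the second relation with `t`. -/
def kTwo : List Bool := [false, true, false, true, false, true, true, false, true, false, true, false, true, false, true, false, true, false, true, true]

/-- The element of the second relation. -/
def uWord : List Bool := [true, false, true, false, true, false, true, true, false, true, false, true, false, true, true, false, true, false, true, false, true]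

/-- The element of the second relation, in the centraliser. -/
def uD : List Bool := [false, true, true, false, true, true, false, true, false, true, false, true, false, true, false, true, true, true, false, true, true, false, true, true, true, false, true, false, true]

/-- The reversal of the triangle: translation and corrections. -/
def revD : List (List Bool) := [[true, true], [true, true], [true, true]]

/-- The data of the first identity. -/
def dG : List Bool := [false, true, true, false, true, false, true, false, true, true, true, false, true, true, false, true]

/-- The correction of the exchanged point. -/
def dTwo : List Bool := [true, true, true, false, true, true, false, true, false, true, true, true, false, true, true, true, false, true, true, false]

/-- The first translation of the triangle. -/
def dA : List Bool := [false, true, true, true, false, true, true, false]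

/-- The correction of its second point. -/
def rA : List Bool := [false, true, true, false, true, true, true, false, true, false, true, true, false, true, true, false, true, true, false, true, false, true, false, true, true, true, false, true]

/-- The second translation of the triangle. -/
def dB : List Bool := [true, true, false]

/-- The correction of its second point. -/
def rB : List Bool := [false, true, false, true, false, true, true, false, true, true, true, false, true, true, false, true, true, false, true, true, false, true]

/-- The correction of its third point. -/
def rC : List Bool := [true, true, false, true, false, true, false, true, true, false, true, true, true, false, true, true, true, false, true, false, true, true]

/-- The translation of the triangle for the second identity. -/
def dThree : List Bool := [true]

/-- Elements moving the pair to the points of that triangle. -/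
def dPts : List (List Bool) := [[], [false, true, true, true, false, true, true, true, false, true, true, false, true, false, true, false], [false, true, false, true, false, true, false, true, false, true, false, true, true, true, false, true, false, true, true, false, true, false]]

/-- Their corrections. -/
def rPts : List (List Bool) := [[true, true, true], [true, true, false, true, false, true, false, true, false, true, true, false, true, true, true, false, true, true, false, true, false, true, true, false, true], [false, true, true, false, true, true, false, true, true, true, false, true, true, false, true, false, true, false, true, true, false, true, false, true, true, false, true]]

/-- The corrections of the image triangle. -/
def rImg : List (List Bool) := [[true, true, false, true, true, true, false, true, true, true], [false, true, false, true, true, true, false, true, false, true, false, true, false, true, true, false, true, true, true, false, true, false, true, false], [false, true, false, true, false, true, true, false, true, true, true, false, true, true, false, true, false, true, true, false, true, true, false]]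

/-- The correction for the fixed point of the involution. -/
def rFix : List Bool := [false, true, false, true, true, false, true, true, true, false, true, false, true, true, false, true, true, true]

end Cfsg.Agent.H40.J4
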