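import Cfsg.Agent.H40.J4.Words

/-!
In a central extension of the presented Janko group J4 whose `x`, `y` part satisfies the relations of
the Mathieu group, a central change of the lift of `t` satisfies all the relations with `t`.
-/

set_option autoImplicit false

namespace Cfsg.Agent.H40.J4

open Subgroup

variable {Γ : Type*} [Group Γ] (X Y : Γ)

/-- The element of a word. -/
def el (w : List Bool) : Γ := (w.map fun b => if b then Y else X).prod

/-- The conjugate of an element by a word. -/
def cj (T : Γ) (p : List Bool) : Γ := (el X Y p)⁻¹ * T * el X Y p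

variable {X Y}

theorem el_append (v w : List Bool) : el X Y (v ++ w) = el X Y v * el X Y w := by simp [el]

theorem el_nil : el X Y [] = 1 := rfl

theorem el_x : el X Y [false] = X := by simp [el]

theorem el_y : el X Y [true] = Y := by simp [el]

theorem cj_nil (T : Γ) : cj X Y T [] = T := by simp [cj, el_nil]

theorem cj_append (T : Γ) (p q : List Bool) :
    cj X Y T (p ++ q) = (el X Y q)⁻¹ * cj X Y T p * el X Y q := by
  simp [cj, el_append, mul_assoc]

theorem central_comm {z : Γ} (hz : z ∈ center Γ) (x : Γ) : x * z = z * x := mem_center_iff.1 hz x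

theorem central_conj {z : Γ} (hz : z ∈ center Γ) (g : Γ) : g⁻¹ * z * g = z := by
  rw [mul_assoc, ← central_comm hz g, inv_mul_cancel_left]

theorem cj_mul_central (T : Γ) {z : Γ} (hz : z ∈ center Γ) (p : List Bool) :
    cj X Y (T * z) p = cj X Y T p * z := by
  simp only [cj, mul_assoc]
  rw [← central_comm hz (el X Y p)]

/-- A product of three conjugates read from a third power. -/
theorem cube_eq (A S : Γ) (hA : A ^ 3 = 1) :
    (A * S) ^ 3 = (A⁻¹ * A⁻¹ * S * (A * A)) * (A⁻¹ * S * A) * S := by
  have h3 : A * (A * A) = 1 := by rw [← hA]; simp [pow_succ, mul_assoc]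
  have h1 : A⁻¹ = A * A := inv_eq_of_mul_eq_one_right h3
  have h4 : A⁻¹ * A⁻¹ = A := by rw [← mul_inv_rev, ← h1, inv_inv]
  rw [h4, h1]
  simp only [pow_succ, pow_zero, one_mul, mul_assoc]
  congr 2
  simp only [← mul_assoc]
  rw [show A * A * A = 1 by rw [mul_assoc]; exact h3]
  simp [mul_assoc]

variable (hrel : ∀ v w, ev v = ev w → el X Y v = el X Y w)

include hrel

theorem X_sq : X * X = 1 := by
  simpa [el] using hrel _ _ rel_xx

theorem Y_cube : Y ^ 3 = 1 := by
  have h := hrel _ _ rel_yyy
  simpa [el, pow_succ, mul_assoc] using h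

theorem el_winv (w : List Bool) : el X Y (winv w) = (el X Y w)⁻¹ := by
  induction w with
  | nil => simp [winv, el]
  | cons a w ih =>
    have hw : winv (a :: w) = winv w ++ (if a then [true, true] else [false]) := by simp [winv]
    have h1 : el X Y (if a then [true, true] else [false]) = (el X Y [a])⁻¹ := by
      cases a
      · simp only [Bool.false_eq_true, if_false, el_x]
        exact (inv_eq_of_mul_eq_one_right (X_sq hrel)).symm
      · simp only [if_true, el_y]
        refine (inv_eq_of_mul_eq_one_right ?_).symm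
        have := Y_cube hrel
        simpa [el, pow_succ, mul_assoc] using this
    rw [hw, el_append, ih, h1, show a :: w = [a] ++ w from rfl, el_append, mul_inv_rev]

theorem cj_congr {v w : List Bool} (h : ev v = ev w) (T : Γ) : cj X Y T v = cj X Y T w := by
  rw [cj, cj, hrel v w h]

variable {T b : Γ} (hb : b ∈ center Γ) (hX : cj X Y T [false] = T * b)
  (hW : T⁻¹ * cj X Y T wWord ∈ center Γ)

include hb hX

theorem b_sq : b * b = 1 := by
  have h : cj X Y T [false, false] = T * b * b := by
    rw [show ([false, false] : List Bool) = [false] ++ [false] from rfl, cj_append, hX, el_x]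
    calc X⁻¹ * (T * b) * X = X⁻¹ * T * (b * X) := by simp only [mul_assoc]
      _ = X⁻¹ * T * X * b := by rw [← central_comm hb X]; simp only [mul_assoc]
      _ = T * b * b := by rw [← hX, cj, el_x]
  rw [cj_congr hrel rel_xx, cj_nil, mul_assoc] at h
  exact left_eq_mul.1 h

include hW

/-- Every word in the two centralising elements moves the lift by `b`, once per letter. -/
theorem cj_dw (s : List Bool) : cj X Y T (dw s) = T * b ^ s.length := by
  set c := T⁻¹ * cj X Y T wWord with hcdef
  have hw : cj X Y T wWord = T * c := (mul_inv_cancel_left _ _).symm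
  -- the general formula
  have gen : ∀ s : List Bool, cj X Y T (dw s) = T * (b ^ s.count false * c ^ s.count true) := by
    intro s
    induction s with
    | nil => simp [dw, cj_nil]
    | cons a s ih =>
      have hd : dw (a :: s) = (if a then wWord else [false]) ++ dw s := by simp [dw]
      rw [hd, cj_append]
      cases a
      · simp only [Bool.false_eq_true, if_false, hX, List.count_cons_self,
          List.count_cons_of_ne (show false ≠ true by decide)]
        calc (el X Y (dw s))⁻¹ * (T * b) * el X Y (dw s)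
            = (el X Y (dw s))⁻¹ * T * (b * el X Y (dw s)) := by simp only [mul_assoc]
          _ = cj X Y T (dw s) * b := by rw [← central_comm hb, cj]; simp only [mul_assoc]
          _ = _ := by
            rw [ih, pow_succ' b, mul_assoc, central_comm hb (b ^ _ * c ^ _)]
            simp only [mul_assoc]
      · simp only [if_true, hw, List.count_cons_self,
          List.count_cons_of_ne (show true ≠ false by decide)]
        calc (el X Y (dw s))⁻¹ * (T * c) * el X Y (dw s)
            = (el X Y (dw s))⁻¹ * T * (c * el X Y (dw s)) := by simp only [mul_assoc]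
          _ = cj X Y T (dw s) * c := by rw [← central_comm hW, cj]; simp only [mul_assoc]
          _ = _ := by rw [ih, pow_succ c]; simp only [mul_assoc]
  have h4 : c ^ 4 = 1 := by
    have h := gen [true, true, true, true]
    rw [show dw [true, true, true, true] = wWord ++ wWord ++ wWord ++ wWord by simp [dw],
      cj_congr hrel rel_wFour, cj_nil] at h
    simpa using (left_eq_mul.1 h : b ^ _ * c ^ _ = 1)
  have h21 : b ^ 21 * c ^ 21 = 1 := by
    have h := gen (List.replicate 21 [false, true]).flatten
    rw [cj_congr hrel rel_xw, cj_nil] at h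
    have e := left_eq_mul.1 h
    simpa [List.replicate] using e
  have hb2 := b_sq hrel hb hX
  have hc : c = b := by
    rw [show b ^ 21 = b by rw [show 21 = 2 * 10 + 1 from rfl, pow_succ, pow_mul, pow_two, hb2,
      one_pow, one_mul], show c ^ 21 = c by rw [show 21 = 4 * 5 + 1 from rfl, pow_succ, pow_mul, h4,
      one_pow, one_mul]] at h21
    rw [← inv_eq_of_mul_eq_one_right h21, inv_eq_of_mul_eq_one_right hb2]
  rw [gen, hc, ← pow_add, List.count_false_add_count_true]

theorem cj_dw_append (s p : List Bool) :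
    cj X Y T (dw s ++ p) = cj X Y T p * b ^ s.length := by
  rw [cj_append, cj_dw hrel hb hX hW, ← cj_mul_central T (pow_mem hb _), cj]

theorem cj_of_ev {s p q : List Bool} (h : ev p = ev (dw s ++ q)) :
    cj X Y T p = cj X Y T q * b ^ s.length := by
  rw [cj_congr hrel h, cj_dw_append hrel hb hX hW]

theorem cj_of_ev' {s p : List Bool} (h : ev p = ev (dw s)) :
    cj X Y T p = T * b ^ s.length := by
  rw [cj_congr hrel h, cj_dw hrel hb hX hW]

omit hb hX hW

theorem triangle (T : Γ) :
    cj X Y T pOne * cj X Y T pTwo * cj X Y T kOne = (Y * cj X Y T kOne) ^ 3 := by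
  rw [cube_eq Y _ (Y_cube hrel), pOne, pTwo, cj_append, cj_append, el_y,
    show el X Y [true, true] = Y * Y by simp [el], mul_inv_rev]

theorem triangle_conj (T : Γ) {d : Γ} (hd : d ∈ center Γ)
    (h : (Y * cj X Y T kOne) ^ 3 = d) (g : List Bool) :
    cj X Y T (pOne ++ g) * cj X Y T (pTwo ++ g) * cj X Y T (kOne ++ g) = d := by
  rw [cj_append, cj_append, cj_append]
  have e := triangle hrel T
  rw [h] at e
  calc _ = (el X Y g)⁻¹ * (cj X Y T pOne * cj X Y T pTwo * cj X Y T kOne) * el X Y g := by group
    _ = d := by rw [e, central_conj hd]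

include hb hX hW

/-- The square of the lift and the first relation with `t`, related by the reversal. -/
theorem gauge {a d : Γ} (ha : a ∈ center Γ) (hd : d ∈ center Γ) (hT : T * T = a)
    (h3 : (Y * cj X Y T kOne) ^ 3 = d) : d * d = a * a * a := by
  obtain ⟨⟨h1, h2⟩, h3'⟩ := rel_rev
  have e := triangle_conj hrel T hd h3 gRev
  rw [cj_of_ev hrel hb hX hW h1, cj_of_ev hrel hb hX hW h2, cj_of_ev hrel hb hX hW h3'] at e
  have hlen : ∀ i < 3, b ^ (at' revD i).length = 1 := by
    intro i hi
    rw [show (at' revD i).length = 2 from by revert i; decide, pow_two, b_sq hrel hb hX]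
  rw [hlen 0 (by norm_num), hlen 1 (by norm_num), hlen 2 (by norm_num), mul_one, mul_one,
    mul_one] at e
  have e0 := triangle hrel T
  rw [h3] at e0
  have hsq : ∀ p, cj X Y T p * cj X Y T p = a := fun p => by
    rw [cj, show (el X Y p)⁻¹ * T * el X Y p * ((el X Y p)⁻¹ * T * el X Y p) =
      (el X Y p)⁻¹ * (T * T) * el X Y p by group, hT, central_conj ha]
  calc d * d = (cj X Y T pOne * cj X Y T pTwo * cj X Y T kOne) *
        (cj X Y T kOne * cj X Y T pTwo * cj X Y T pOne) := by rw [e, e0]
    _ = cj X Y T pOne * (cj X Y T pTwo * (cj X Y T kOne * cj X Y T kOne) * cj X Y T pTwo) *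
        cj X Y T pOne := by simp only [mul_assoc]
    _ = cj X Y T pOne * (cj X Y T pTwo * cj X Y T pTwo * a) * cj X Y T pOne := by
        rw [hsq kOne, mul_assoc (cj X Y T pTwo) a, ← central_comm ha]
        simp only [mul_assoc]
    _ = cj X Y T pOne * cj X Y T pOne * (a * a) := by
        rw [hsq pTwo, mul_assoc _ (a * a), ← central_comm (mul_mem ha ha), ← mul_assoc]
    _ = a * a * a := by rw [hsq pOne, ← mul_assoc]

omit hb hX hW

/-- With the lift an involution and the first relation exact, everything is exact. -/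
theorem exact_relations (hT : T * T = 1) (hb : b ∈ center Γ) (hX : cj X Y T [false] = T * b)
    (hW : T⁻¹ * cj X Y T wWord ∈ center Γ) (h3 : (Y * cj X Y T kOne) ^ 3 = 1)
    (he : (el X Y uWord * T * cj X Y T kTwo) ^ 2 ∈ center Γ) :
    b = 1 ∧ cj X Y T wWord = T ∧ (el X Y uWord * T * cj X Y T kTwo) ^ 2 = 1 := by
  have hb2 := b_sq hrel hb hX
  have hbi : b⁻¹ = b := inv_eq_of_mul_eq_one_right hb2
  have sq : ∀ p, cj X Y T p * cj X Y T p = 1 := fun p => by
    rw [cj, show (el X Y p)⁻¹ * T * el X Y p * ((el X Y p)⁻¹ * T * el X Y p) =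
      (el X Y p)⁻¹ * (T * T) * el X Y p by group, hT, mul_one, inv_mul_cancel]
  have mvb : ∀ (x y : Γ) (n : ℕ), x * b ^ n * y = x * y * b ^ n := fun x y n => by
    rw [mul_assoc, ← central_comm (pow_mem hb n) y, mul_assoc]
  have bb : ∀ n, b ^ n * b ^ n = 1 := fun n => by
    rw [← pow_add, ← two_mul, pow_mul, pow_two, hb2, one_pow]
  have bmerge : ∀ (x : Γ) (m n : ℕ), x * b ^ m * b ^ n = x * b ^ (m + n) := fun x m n => by
    rw [mul_assoc, ← pow_add]
  -- the second relation in normal form
  set E := (el X Y uWord * T * cj X Y T kTwo) ^ 2 * b ^ uD.length with hE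
  have hEc : E ∈ center Γ := mul_mem he (pow_mem hb _)
  set N := el X Y nWord with hN
  have hU : cj X Y T uWord = T * b ^ uD.length := cj_of_ev' hrel hb hX hW rel_u
  have hNT : (N : Γ)⁻¹ * T * N = T := by
    have h := cj_of_ev' hrel hb hX hW rel_n
    rw [show ([true, true] : List Bool).length = 2 from rfl, pow_two, hb2, mul_one] at h
    exact h
  have hNT' : N * T = T * N := by
    calc N * T = N * (N⁻¹ * T * N) := by rw [hNT]
      _ = T * N := by group
  have hmain : N * T * cj X Y T pA * T * cj X Y T kTwo = E := by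
    rw [hE, pow_two]
    have e1 : el X Y uWord * T * cj X Y T kTwo * (el X Y uWord * T * cj X Y T kTwo) =
        el X Y uWord * el X Y uWord * ((el X Y uWord)⁻¹ * T * el X Y uWord) *
          ((el X Y uWord)⁻¹ * cj X Y T kTwo * el X Y uWord) * T * cj X Y T kTwo := by group
    rw [e1, ← cj_append, show kTwo ++ uWord = pA from rfl,
      show (el X Y uWord)⁻¹ * T * el X Y uWord = cj X Y T uWord from rfl, hU,
      ← el_append, show uWord ++ uWord = nWord from rfl, ← hN, ← mul_assoc N T]
    rw [mvb (N * T) (cj X Y T pA), mvb _ T, mvb _ (cj X Y T kTwo), mul_assoc _ (b ^ _) (b ^ _),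
      bb, mul_one]
  -- the translated relation
  have hB1 : (el X Y gB)⁻¹ * N * el X Y gB = N := by
    have h := hrel _ _ rel_gB.1
    rw [el_append, el_append] at h
    rw [mul_assoc, hN, h, inv_mul_cancel_left]
  have hTg : cj X Y T gB = cj X Y T pA * b ^ dG.length := cj_dw_append hrel hb hX hW dG pA
  have hTa : cj X Y T (pA ++ gB) = T * b ^ dTwo.length := cj_of_ev' hrel hb hX hW rel_gB.2
  have htr : N * cj X Y T pA * T * cj X Y T pA * cj X Y T (kTwo ++ gB) * b ^ dTwo.length = E := by
    have h : (el X Y gB)⁻¹ * (N * T * cj X Y T pA * T * cj X Y T kTwo) * el X Y gB = E := by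
      rw [hmain, central_conj hEc]
    rw [show (el X Y gB)⁻¹ * (N * T * cj X Y T pA * T * cj X Y T kTwo) * el X Y gB =
      ((el X Y gB)⁻¹ * N * el X Y gB) * ((el X Y gB)⁻¹ * T * el X Y gB) *
        ((el X Y gB)⁻¹ * cj X Y T pA * el X Y gB) * ((el X Y gB)⁻¹ * T * el X Y gB) *
        ((el X Y gB)⁻¹ * cj X Y T kTwo * el X Y gB) by group, hB1, ← cj_append, ← cj_append,
      show (el X Y gB)⁻¹ * T * el X Y gB = cj X Y T gB from rfl, hTg, hTa] at h
    rw [← h]
    simp only [← mul_assoc]
    rw [mvb (N * cj X Y T pA) T, bmerge, mvb _ (cj X Y T pA), bmerge,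
      mvb _ (cj X Y T (kTwo ++ gB)), add_right_comm, pow_add, pow_add, bb, one_mul]
  -- the two triangles
  have tA : T * cj X Y T (kTwo ++ gB) * cj X Y T pTwenty * b ^ (dA.length + rA.length) = 1 := by
    have h := triangle_conj hrel T (one_mem _) h3 hA
    rw [cj_of_ev' hrel hb hX hW rel_hA.1, cj_of_ev hrel hb hX hW rel_hA.2,
      show kOne ++ hA = pTwenty from rfl, ← mul_assoc (T * _), mvb T,
      mul_assoc (T * _) (b ^ _) (b ^ _), ← pow_add, mvb] at h
    exact h
  have tB : cj X Y T pTwenty * cj X Y T pA * cj X Y T kTwo *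
      b ^ (dB.length + rB.length + rC.length) = 1 := by
    have h := triangle_conj hrel T (one_mem _) h3 hB
    rw [cj_of_ev hrel hb hX hW rel_hB.1, cj_of_ev hrel hb hX hW rel_hB.2.1,
      cj_of_ev hrel hb hX hW rel_hB.2.2, ← mul_assoc, ← mul_assoc (cj X Y T pTwenty * _),
      mvb (cj X Y T pTwenty), bmerge, mvb, bmerge] at h
    exact h
  have hbodd : b = 1 := by
    set A := cj X Y T pA with hA'
    set B := cj X Y T kTwo with hB'
    set C := cj X Y T (kTwo ++ gB) with hC'
    set S := cj X Y T pTwenty with hS'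
    have inv_of : ∀ {x y : Γ}, x * y = 1 → x = y⁻¹ := fun h => eq_inv_of_mul_eq_one_left h
    have bi : ∀ n, (b ^ n)⁻¹ = b ^ n := fun n => inv_eq_of_mul_eq_one_right (bb n)
    have hTC : T * C = S * b ^ (dA.length + rA.length) := by
      have h : T * C * (S * b ^ (dA.length + rA.length)) = 1 := by rw [← mul_assoc]; exact tA
      rw [inv_of h, mul_inv_rev, bi, inv_eq_of_mul_eq_one_right (sq pTwenty),
        ← central_comm (pow_mem hb _) S]
    have hSAB : S * A * B = b ^ (dB.length + rB.length + rC.length) := by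
      rw [inv_of tB, bi]
    have hc : E * b ^ dTwo.length ∈ center Γ := mul_mem hEc (pow_mem hb _)
    -- the translated relation, solved for the exchanged pair
    have hAT : A * T = N⁻¹ * C * A * (E * b ^ dTwo.length) := by
      have h1 : N * A * T * A * C = E * b ^ dTwo.length := by
        rw [← htr, mul_assoc _ (b ^ _) (b ^ _), bb, mul_one]
      calc A * T = N⁻¹ * (N * A * T * A * C) * C⁻¹ * A⁻¹ := by group
        _ = N⁻¹ * (E * b ^ dTwo.length) * C * A := by
            rw [h1, inv_eq_of_mul_eq_one_right (sq (kTwo ++ gB)),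
              inv_eq_of_mul_eq_one_right (sq pA)]
        _ = _ := by
            rw [mul_assoc (N⁻¹ * (E * _)) C A, mul_assoc N⁻¹ (E * _), ← central_comm hc]
            simp only [mul_assoc]
    have h : E = E * b ^ (dTwo.length + (dA.length + rA.length) +
        (dB.length + rB.length + rC.length)) :=
      calc E = T * N * (A * T) * B := by rw [← hNT', ← hmain]; simp only [mul_assoc]
        _ = T * C * A * (E * b ^ dTwo.length) * B := by
            rw [hAT]; simp only [mul_assoc, mul_inv_cancel_left]
        _ = T * C * A * B * (E * b ^ dTwo.length) := by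
            rw [mul_assoc _ (E * _) B, ← central_comm hc, ← mul_assoc]
        _ = S * A * B * (b ^ (dA.length + rA.length) * (E * b ^ dTwo.length)) := by
            rw [hTC, mvb S A, mvb (S * A) B, mul_assoc (S * A * B)]
        _ = _ := by
            rw [hSAB, ← mul_assoc, ← pow_add, ← central_comm hEc, ← mul_assoc, ← pow_add]
            rw [central_comm hEc]
            congr 2
    have hk : b ^ (dTwo.length + (dA.length + rA.length) +
        (dB.length + rB.length + rC.length)) = 1 := left_eq_mul.1 h
    rw [show dTwo.length + (dA.length + rA.length) + (dB.length + rB.length + rC.length) =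
      2 * 51 + 1 by decide, pow_succ, pow_mul, pow_two, hb2, one_pow, one_mul] at hk
    exact hk
  subst hbodd
  simp only [one_pow, mul_one] at hX hU hTg hTa htr
  have hw : cj X Y T wWord = T := by
    have h := cj_dw hrel hb (by rw [mul_one]; exact hX) hW [true]
    simpa [dw] using h
  refine ⟨rfl, hw, ?_⟩
  have hEe : E = (el X Y uWord * T * cj X Y T kTwo) ^ 2 := by rw [hE, one_pow, mul_one]
  rw [← hEe]
  have hX' : cj X Y T [false] = T * 1 := by rw [mul_one]; exact hX
  have ev' : ∀ {s p q : List Bool}, ev p = ev (dw s ++ q) → cj X Y T p = cj X Y T q := fun h => by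
    rw [cj_of_ev hrel hb hX' hW h, one_pow, mul_one]
  -- conjugation by the lift of the second point
  have hconj : T * cj X Y T pA * T = N⁻¹ * E * cj X Y T kTwo := by
    calc T * cj X Y T pA * T = N⁻¹ * (N * T * cj X Y T pA * T * cj X Y T kTwo) *
          (cj X Y T kTwo)⁻¹ := by group
      _ = _ := by rw [hmain, inv_eq_of_mul_eq_one_right (sq kTwo)]
  have hbN : N⁻¹ * cj X Y T kTwo * N = cj X Y T kTwo := by
    rw [hN, ← cj_append]; exact ev' rel_fix
  have hN2 : N * N = 1 := by rw [hN, ← el_append]; exact hrel _ _ rel_n_sq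
  have hE2 : E * E = 1 := by
    have h := hconj
    have hs : T * cj X Y T pA * T * (T * cj X Y T pA * T) = 1 := by
      rw [show T * cj X Y T pA * T * (T * cj X Y T pA * T) =
        T * cj X Y T pA * (T * T) * cj X Y T pA * T by group, hT, mul_one, mul_assoc T, sq, mul_one,
        hT]
    rw [h, inv_eq_of_mul_eq_one_right hN2] at hs
    rw [inv_eq_of_mul_eq_one_right hN2] at hbN
    calc E * E = E * E * ((N * cj X Y T kTwo * N) * cj X Y T kTwo) := by rw [hbN, sq, mul_one]
      _ = N * E * cj X Y T kTwo * (N * E * cj X Y T kTwo) := by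
          simp only [mul_assoc]
          simp only [← mul_assoc, central_comm hEc]
      _ = 1 := hs
  have hd : ∀ i : ℕ, T * cj X Y T (pA ++ dP i) * T =
      el X Y (nP i) * E * cj X Y T (kTwo ++ dP i) := by
    intro i
    have hc : (el X Y (dP i))⁻¹ * T * el X Y (dP i) = T := by
      have h := cj_dw hrel hb hX' hW (at' dPts i)
      rw [one_pow, mul_one] at h
      exact h
    rw [cj_append, cj_append, show T * ((el X Y (dP i))⁻¹ * cj X Y T pA * el X Y (dP i)) * T =
      (el X Y (dP i))⁻¹ * T * el X Y (dP i) * ((el X Y (dP i))⁻¹ * cj X Y T pA * el X Y (dP i)) *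
      ((el X Y (dP i))⁻¹ * T * el X Y (dP i)) by rw [hc]]
    rw [show (el X Y (dP i))⁻¹ * T * el X Y (dP i) * ((el X Y (dP i))⁻¹ * cj X Y T pA * el X Y (dP i)) *
      ((el X Y (dP i))⁻¹ * T * el X Y (dP i)) =
        (el X Y (dP i))⁻¹ * (T * cj X Y T pA * T) * el X Y (dP i) by group, hconj,
      inv_eq_of_mul_eq_one_right hN2, show el X Y (nP i) =
        (el X Y (dP i))⁻¹ * N * el X Y (dP i) by rw [nP, el_append, el_append, el_winv hrel, hN]]
    rw [show (el X Y (dP i))⁻¹ * (N * E * cj X Y T kTwo) * el X Y (dP i) =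
      (el X Y (dP i))⁻¹ * N * el X Y (dP i) * ((el X Y (dP i))⁻¹ * E * el X Y (dP i)) *
      ((el X Y (dP i))⁻¹ * cj X Y T kTwo * el X Y (dP i)) by group, central_conj hEc]
  obtain ⟨c0, c1, c2, cn⟩ := rel_hC
  obtain ⟨g0, g1, g2⟩ := rel_hD
  have hsrc : cj X Y T (pA ++ dP 0) * cj X Y T (pA ++ dP 1) * cj X Y T (pA ++ dP 2) = 1 := by
    rw [ev' c0, ev' c1, ev' c2]
    exact triangle_conj hrel T (one_mem _) h3 hC
  have himg : cj X Y T qOne * cj X Y T qTwo * cj X Y T qThree = 1 := by
    rw [← ev' g0, ← ev' g1, ← ev' g2]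
    exact triangle_conj hrel T (one_mem _) h3 hD
  have hn3 : el X Y (nP 0) * (el X Y (nP 1) * el X Y (nP 2)) = 1 := by
    rw [← el_append, ← el_append, hrel _ _ cn, el_nil]
  have hE3 : E * (E * E) = 1 := by
    have h : (T * cj X Y T (pA ++ dP 0) * T) * (T * cj X Y T (pA ++ dP 1) * T) *
        (T * cj X Y T (pA ++ dP 2) * T) = 1 := by
      rw [show (T * cj X Y T (pA ++ dP 0) * T) * (T * cj X Y T (pA ++ dP 1) * T) *
        (T * cj X Y T (pA ++ dP 2) * T) = T * cj X Y T (pA ++ dP 0) * (T * T) *
        cj X Y T (pA ++ dP 1) * (T * T) * cj X Y T (pA ++ dP 2) * T by group, hT, mul_one, mul_one,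
        mul_assoc T, mul_assoc T, hsrc, mul_one, hT]
    rw [hd 0, hd 1, hd 2] at h
    have key : el X Y (nP 0) * (el X Y (nP 1) * el X Y (nP 2)) *
        (cj X Y T qOne * cj X Y T qTwo * cj X Y T qThree) * (E * (E * E)) =
        el X Y (nP 0) * E * cj X Y T (kTwo ++ dP 0) * (el X Y (nP 1) * E * cj X Y T (kTwo ++ dP 1)) *
        (el X Y (nP 2) * E * cj X Y T (kTwo ++ dP 2)) := by
      have push : ∀ x y : Γ, x * E * y = x * y * E := fun x y => by
        rw [mul_assoc, ← central_comm hEc y, mul_assoc]
      have three : ∀ a a' c c' f f' : Γ, a * E * a' * (c * E * c') * (f * E * f') =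
          a * a' * (c * c') * (f * f') * (E * (E * E)) := by
        intro a a' c c' f f'
        rw [push a, push c, push f]
        calc a * a' * E * (c * c' * E) * (f * f' * E) =
            a * a' * (E * (c * c')) * (E * (f * f')) * E := by simp only [mul_assoc]
          _ = a * a' * (c * c') * (E * (E * (f * f'))) * E := by
              rw [← central_comm hEc (c * c')]; simp only [mul_assoc]
          _ = a * a' * (c * c') * (f * f') * (E * (E * E)) := by
              rw [← mul_assoc E E, ← central_comm (mul_mem hEc hEc) (f * f')]; simp only [mul_assoc]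
      rw [three]
      refine congrArg (fun z : Γ => z * (E * (E * E))) ?_
      simp only [qOne, qTwo, qThree, cj, el_append, mul_inv_rev]
      group
    rw [← key, hn3, himg, one_mul, one_mul] at h
    exact h
  calc E = E * (E * E) := by rw [hE2, mul_one]
    _ = 1 := hE3

end Cfsg.Agent.H40.J4
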