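import Cfsg.Prelude.Def_Spor_J4
import Cfsg.Agent.H40.J4.Ident
import Cfsg.Agent.Linear.Mult.CentralQuot
import Cfsg.Agent.H50.SchurRigid

/-!
The presented Janko group J4 has no proper stem extension, given the homomorphism of the Mathieu
group on 24 points onto its first two generators.
-/

set_option autoImplicit false
set_option maxRecDepth 4000

namespace Cfsg.Agent.H40.J4

open Cfsg Subgroup

/-- The image of a free word in the presented group. -/
abbrev mk (w : FreeGroup Spor.J4.Gen) : Spor.J4 :=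
  PresentedGroup.mk (Spor.coxRelators Spor.J4.edges ∪ {r | r ∈ Spor.J4.extra}) w

/-- The images of the generators. -/
abbrev gx : Spor.J4 := PresentedGroup.of Spor.J4.Gen.x
/-- The image of `y`. -/
abbrev gy : Spor.J4 := PresentedGroup.of Spor.J4.Gen.y
/-- The image of `t`. -/
abbrev gt : Spor.J4 := PresentedGroup.of Spor.J4.Gen.t

theorem mk_extra {r : FreeGroup Spor.J4.Gen} (h : r ∈ Spor.J4.extra) : mk r = 1 :=
  PresentedGroup.one_of_mem (Or.inr h)

theorem map_el {A B : Type*} [Group A] [Group B] (f : A →* B) (a b : A) (w : List Bool) :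
    f (el a b w) = el (f a) (f b) w := by
  rw [el, el, map_list_prod, List.map_map]
  congr 1
  exact List.map_congr_left fun c _ => by cases c <;> simp

theorem map_cj {A B : Type*} [Group A] [Group B] (f : A →* B) (a b c : A) (p : List Bool) :
    f (cj a b c p) = cj (f a) (f b) (f c) p := by
  simp [cj, map_el]

theorem gx_sq : gx * gx = 1 := by
  have h := mk_extra (r := Spor.J4.x ^ 2) (by simp [Spor.J4.extra])
  simpa [mk, pow_two, PresentedGroup.of] using h

theorem gy_cube : gy * gy * gy = 1 := by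
  have h := mk_extra (r := Spor.J4.y ^ 3) (by simp [Spor.J4.extra])
  simpa [mk, pow_succ, PresentedGroup.of] using h

theorem gx_inv : gx⁻¹ = gx := inv_eq_of_mul_eq_one_right gx_sq

theorem gy_inv : gy⁻¹ = gy * gy := inv_eq_of_mul_eq_one_right (by rw [← mul_assoc]; exact gy_cube)

theorem rel_t : gt * gt = 1 ∧ cj gx gy gt [false] = gt ∧ cj gx gy gt wWord = gt ∧
    (gy * cj gx gy gt kOne) ^ 3 = 1 ∧ (el gx gy uWord * gt * cj gx gy gt kTwo) ^ 2 = 1 := by
  have hy : gy⁻¹ = gy * gy := gy_inv
  refine ⟨?_, ?_, ?_, ?_, ?_⟩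
  · have h := mk_extra (r := Spor.J4.t ^ 2) (by simp [Spor.J4.extra])
    simpa [mk, pow_two, PresentedGroup.of] using h
  · have h := mk_extra (r := Spor.J4.extra.getD 9 1) (by decide)
    simp only [Spor.J4.extra, List.getD_cons_succ, List.getD_cons_zero, mk, map_mul, map_inv] at h
    change gt⁻¹ * gx⁻¹ * gt * gx = 1 at h
    simp only [cj, el, List.map_cons, List.map_nil, List.prod_cons, List.prod_nil,
      Bool.false_eq_true, if_false, mul_one]
    simpa only [mul_assoc] using (mul_right_injective gt⁻¹)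
      (show gt⁻¹ * (gx⁻¹ * gt * gx) = gt⁻¹ * gt by rw [inv_mul_cancel, ← h]; simp only [mul_assoc])
  · have h := mk_extra (r := Spor.J4.extra.getD 8 1) (by decide)
    simp only [Spor.J4.extra, List.getD_cons_succ, List.getD_cons_zero, mk, map_mul, map_inv,
      map_pow] at h
    change gt⁻¹ * (gy * gx * gy * (gx * gy⁻¹) ^ 2 * (gx * gy) ^ 3)⁻¹ * gt *
      (gy * gx * gy * (gx * gy⁻¹) ^ 2 * (gx * gy) ^ 3) = 1 at h
    rw [show gy * gx * gy * (gx * gy⁻¹) ^ 2 * (gx * gy) ^ 3 = el gx gy wWord by
      simp [el, wWord, hy, pow_succ, mul_assoc]] at h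
    refine (mul_right_injective gt⁻¹) ?_
    show gt⁻¹ * cj gx gy gt wWord = gt⁻¹ * gt
    rw [inv_mul_cancel, ← h, cj]
    simp only [mul_assoc]
  · have h := mk_extra (r := Spor.J4.extra.getD 10 1) (by decide)
    simp only [Spor.J4.extra, List.getD_cons_succ, List.getD_cons_zero, mk, map_mul, map_inv,
      map_pow] at h
    change (gy * ((gy * gx * gy⁻¹ * gx * gy * gx * gy⁻¹ * gx)⁻¹ * gt *
      (gy * gx * gy⁻¹ * gx * gy * gx * gy⁻¹ * gx))) ^ 3 = 1 at h
    rwa [show gy * gx * gy⁻¹ * gx * gy * gx * gy⁻¹ * gx = el gx gy kOne by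
      simp [el, kOne, hy, mul_assoc]] at h
  · have h := mk_extra (r := Spor.J4.extra.getD 11 1) (by decide)
    simp only [Spor.J4.extra, List.getD_cons_succ, List.getD_cons_zero, mk, map_mul, map_inv,
      map_pow] at h
    change ((gy * gx * gy * gx * gy * gx * gy) ^ 3 * gt *
      (((gx * gy) ^ 3 * gy * (gx * gy) ^ 6 * gy)⁻¹ * gt *
        ((gx * gy) ^ 3 * gy * (gx * gy) ^ 6 * gy))) ^ 2 = 1 at h
    rwa [show (gy * gx * gy * gx * gy * gx * gy) ^ 3 = el gx gy uWord by
        simp [el, uWord, pow_succ, mul_assoc],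
      show (gx * gy) ^ 3 * gy * (gx * gy) ^ 6 * gy = el gx gy kTwo by
        simp [el, kTwo, pow_succ, mul_assoc]] at h

theorem ev_relators :
    ev [false, false] = ev [] ∧ ev [true, true, true] = ev [] ∧
    ev (List.replicate 23 [false, true]).flatten = ev [] ∧
    ev (List.replicate 12 [false, true, true, false, true]).flatten = ev [] ∧
    ev (List.replicate 5 ([false] ++ winv [true, false, true] ++ [false, true, false, true])).flatten
      = ev [] ∧
    ev (List.replicate 4 ([false, true] ++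
      (List.replicate 3 [false, true, false, true, true]).flatten)).flatten = ev [] ∧
    ev ((List.replicate 3 [false, true, false, true, false, true, true]).flatten ++
      (List.replicate 3 [false, true, false, true, true, false, true, true]).flatten) = ev [] := by
  decide +kernel

/-- Every finite stem extension is an isomorphism, given the Mathieu group on the first two
generators. -/
theorem ker_eq_bot {P : Type*} [Group P] [Finite P] (hP : Group.IsPerfect P)
    (h1 : HasCyclicSchurMultiplier P 1) (φ : P →* Spor.J4) (xh yh : P) (hx : φ xh = gx)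
    (hy : φ yh = gy) (hev : ∀ v w, ev v = ev w → el xh yh v = el xh yh w)
    {Γ : Type} [Group Γ] [Finite Γ] (σ : Γ →* Spor.J4) (hσ : IsStemExtension σ) : σ.ker = ⊥ := by
  -- lift the Mathieu group
  let Pb : Subgroup (Γ × P) :=
    (σ.comp (MonoidHom.fst Γ P)).eqLocus (φ.comp (MonoidHom.snd Γ P))
  let ρ : Pb →* P := (MonoidHom.snd Γ P).comp Pb.subtype
  obtain ⟨s, hs⟩ := H74.Schur.exists_section hP h1 ρ
    (fun g => ⟨⟨((hσ.1 (φ g)).choose, g), (hσ.1 (φ g)).choose_spec⟩, rfl⟩)
    (fun a ha => by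
      have hmem : σ a.1.1 = φ a.1.2 := a.2
      have h2 : a.1.2 = 1 := ha
      rw [h2, map_one] at hmem
      rw [mem_center_iff]
      intro b
      refine Subtype.ext (Prod.ext ?_ ?_)
      · exact mem_center_iff.1 (hσ.2.1 hmem) b.1.1
      · show b.1.2 * a.1.2 = a.1.2 * b.1.2
        rw [h2, one_mul, mul_one])
  let η : P →* Γ := ((MonoidHom.fst Γ P).comp Pb.subtype).comp s
  have hη : ∀ g, σ (η g) = φ g := fun g => by
    have h2 : (s g : Γ × P).2 = g := DFunLike.congr_fun hs g
    exact (s g).2.trans (congrArg φ h2)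
  set X := η xh with hXdef
  set Y := η yh with hYdef
  have hσX : σ X = gx := by rw [hXdef, hη, hx]
  have hσY : σ Y = gy := by rw [hYdef, hη, hy]
  have hrel : ∀ v w, ev v = ev w → el X Y v = el X Y w := fun v w h => by
    rw [hXdef, hYdef, ← map_el, ← map_el, hev v w h]
  obtain ⟨T, hσT⟩ := hσ.1 gt
  have cen : ∀ {z : Γ}, σ z = 1 → z ∈ center Γ := fun h => hσ.2.1 h
  obtain ⟨r1, r2, r3, r4, r5⟩ := rel_t
  have ha : T * T ∈ center Γ := cen (by rw [map_mul, hσT, r1])
  have hd : (Y * cj X Y T kOne) ^ 3 ∈ center Γ :=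
    cen (by rw [map_pow, map_mul, map_cj, hσX, hσY, hσT, r4])
  have hb : T⁻¹ * cj X Y T [false] ∈ center Γ :=
    cen (by rw [map_mul, map_inv, map_cj, hσX, hσY, hσT, r2, inv_mul_cancel])
  have hW : T⁻¹ * cj X Y T wWord ∈ center Γ :=
    cen (by rw [map_mul, map_inv, map_cj, hσX, hσY, hσT, r3, inv_mul_cancel])
  have hXb : cj X Y T [false] = T * (T⁻¹ * cj X Y T [false]) := (mul_inv_cancel_left _ _).symm
  -- change the lift
  set a := T * T with hadef
  set d := (Y * cj X Y T kOne) ^ 3 with hddef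
  have hdd : d * d = a * a * a := gauge hrel hb hXb hW ha hd rfl rfl
  set z := a * d⁻¹ with hzdef
  have hz : z ∈ center Γ := mul_mem ha (inv_mem hd)
  set T' := T * z with hT'def
  have hσz : σ z = 1 := by
    rw [hzdef, hadef, hddef, map_mul, map_inv, map_mul, map_pow, map_mul, map_cj, hσX, hσY, hσT,
      r1, r4, inv_one, one_mul]
  have hσT' : σ T' = gt := by rw [hT'def, map_mul, hσT, hσz, mul_one]
  have hza : Commute a d⁻¹ := (mem_center_iff.1 (inv_mem hd) a)
  have hz2 : a * (z * z) = 1 := by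
    rw [hzdef, hza.symm.mul_mul_mul_comm, ← mul_inv_rev, ← mul_assoc, ← mul_assoc, ← hdd,
      mul_inv_cancel]
  have hT2 : T' * T' = 1 := by
    rw [hT'def, mul_assoc, ← mul_assoc z, ← central_comm hz T, mul_assoc T z z, ← mul_assoc,
      ← hadef, hz2]
  have hcj : ∀ p, cj X Y T' p = cj X Y T p * z := cj_mul_central T hz
  have hXb' : cj X Y T' [false] = T' * (T⁻¹ * cj X Y T [false]) := by
    rw [hcj, hT'def, mul_assoc T z, ← central_comm hz, ← mul_assoc T, mul_inv_cancel_left]
  have hW' : T'⁻¹ * cj X Y T' wWord ∈ center Γ := by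
    rw [hcj, hT'def, mul_inv_rev, mul_assoc, ← mul_assoc T⁻¹]
    exact mul_mem (inv_mem hz) (mul_mem hW hz)
  have hz3 : (Y * cj X Y T' kOne) ^ 3 = 1 := by
    have hc : Commute (Y * cj X Y T kOne) z := (mem_center_iff.1 hz _)
    rw [hcj, ← mul_assoc, hc.mul_pow, ← hddef]
    have h3 : z ^ 3 = a * a * a * (d⁻¹ * d⁻¹ * d⁻¹) := by
      rw [hzdef, hza.mul_pow]
      simp only [pow_succ, pow_zero, one_mul]
    rw [h3, ← hdd]
    group
  have he : (el X Y uWord * T' * cj X Y T' kTwo) ^ 2 ∈ center Γ :=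
    cen (by rw [map_pow, map_mul, map_mul, map_el, map_cj, hσX, hσY, hσT', r5])
  obtain ⟨hb1, hw1, he1⟩ := exact_relations hrel hT2 hb hXb' hW' hz3 he
  rw [hb1, mul_one] at hXb'
  -- a section
  let g : Spor.J4.Gen → Γ := fun | .x => X | .y => Y | .t => T'
  have hXi : X⁻¹ = X := inv_eq_of_mul_eq_one_right (X_sq hrel)
  have hYi : Y⁻¹ = Y * Y := inv_eq_of_mul_eq_one_right (by
    have := Y_cube hrel; simpa [pow_succ, mul_assoc] using this)
  have hTi : T'⁻¹ = T' := inv_eq_of_mul_eq_one_right hT2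
  have hker : ∀ r ∈ Spor.coxRelators Spor.J4.edges ∪ {r | r ∈ Spor.J4.extra},
      FreeGroup.lift g r = 1 := by
    rintro r (⟨u, hu, -⟩ | hr)
    · simp [Spor.coxNodes, Spor.J4.edges] at hu
    · obtain ⟨e1, e2, e3, e4, e5, e6, e7⟩ := ev_relators
      have q := fun {w : List Bool} (h : ev w = ev []) => hrel w [] h
      simp only [Set.mem_setOf_eq, Spor.J4.extra, List.mem_cons, List.not_mem_nil, or_false] at hr
      rcases hr with rfl | rfl | rfl | rfl | rfl | rfl | rfl | rfl | rfl | rfl | rfl | rfl <;>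
        simp only [map_pow, map_mul, map_inv, FreeGroup.lift_apply_of, g]
      · exact (pow_two X).trans (X_sq hrel)
      · exact Y_cube hrel
      · simpa [el, pow_succ, mul_assoc] using q e3
      · simpa [el, pow_succ, mul_assoc, hXi, hYi] using q e4
      · simpa [el, winv, pow_succ, mul_assoc, hXi, hYi] using q e5
      · simpa [el, pow_succ, mul_assoc, hXi, hYi] using q e6
      · simpa [el, pow_succ, mul_assoc, hXi, hYi] using q e7
      · exact (pow_two T').trans hT2
      · rw [show Y * X * Y * (X * Y⁻¹) ^ 2 * (X * Y) ^ 3 = el X Y wWord by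
          simp [el, wWord, hYi, pow_succ, mul_assoc]]
        calc T'⁻¹ * (el X Y wWord)⁻¹ * T' * el X Y wWord = T'⁻¹ * cj X Y T' wWord := by
              rw [cj]; simp only [mul_assoc]
          _ = 1 := by rw [hw1, inv_mul_cancel]
      · calc T'⁻¹ * X⁻¹ * T' * X = T'⁻¹ * cj X Y T' [false] := by
              rw [cj, el_x]; simp only [mul_assoc]
          _ = 1 := by rw [hXb', inv_mul_cancel]
      · rw [show Y * X * Y⁻¹ * X * Y * X * Y⁻¹ * X = el X Y kOne by
          simp [el, kOne, hYi, mul_assoc]]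
        exact hz3
      · rw [show (Y * X * Y * X * Y * X * Y) ^ 3 = el X Y uWord by
            simp [el, uWord, pow_succ, mul_assoc],
          show (X * Y) ^ 3 * Y * (X * Y) ^ 6 * Y = el X Y kTwo by
            simp [el, kTwo, pow_succ, mul_assoc]]
        exact he1
  let ψ : Spor.J4 →* Γ := PresentedGroup.toGroup hker
  have hsec : σ.comp ψ = MonoidHom.id Spor.J4 := by
    refine PresentedGroup.ext fun i => ?_
    show σ (ψ (PresentedGroup.of i)) = PresentedGroup.of i
    rw [PresentedGroup.toGroup.of]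
    cases i <;> assumption
  refine Linear.Mult.ker_eq_bot_of_lift hσ ψ.range ?_ ?_
  · rw [MonoidHom.map_range, hsec, MonoidHom.range_eq_top]
    exact Function.surjective_id
  · rintro _ ⟨q, rfl⟩ hq
    have : σ.comp ψ q = q := DFunLike.congr_fun hsec q
    rw [MonoidHom.comp_apply, hq] at this
    rw [← this, map_one]

/-- The multiplier is trivial, given finiteness and the Mathieu group on the first two generators. -/
theorem hasTrivialMultiplier [Finite Spor.J4] {P : Type*} [Group P] [Finite P]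
    (hP : Group.IsPerfect P) (h1 : HasCyclicSchurMultiplier P 1) (φ : P →* Spor.J4) (xh yh : P)
    (hx : φ xh = gx) (hy : φ yh = gy) (hev : ∀ v w, ev v = ev w → el xh yh v = el xh yh w) :
    HasCyclicSchurMultiplier Spor.J4 1 :=
  Cfsg.Agent.H50.hasTrivialMultiplier_iff.2 fun _ _ _ σ hσ => ker_eq_bot hP h1 φ xh yh hx hy hev σ hσ

end Cfsg.Agent.H40.J4
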