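import Mathlib
import Cfsg.Agent.H40.J4.Data

/-!
Words in the generators `x`, `y` of the Mathieu group on 24 points and the permutation equations
between them used for the defects of the relators of the presented Janko group J4.
-/

set_option autoImplicit false
set_option maxRecDepth 100000

namespace Cfsg.Agent.H40.J4

/-- The image lists of `x` and `y`. -/
def gTab : Bool → List ℕ
  | false => [4, 21, 17, 12, 0, 19, 8, 14, 6, 23, 20, 15, 3, 16, 7, 11, 13, 2, 22, 5, 10, 1, 18, 9]
  | true => [0, 22, 20, 18, 11, 19, 1, 7, 8, 5, 3, 23, 12, 17, 13, 2, 16, 14, 10, 9, 15, 21, 6, 4]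

/-- The images of the points under a word, read from the left. -/
def ev (w : List Bool) : List ℕ :=
  w.foldl (fun p b => p.map fun i => (gTab b).getD i 0) (List.range 24)

/-- The inverse word. -/
def winv (w : List Bool) : List Bool := w.reverse.flatMap fun b => if b then [true, true] else [false]

/-- A word in the two elements centralised by `t`, expanded. -/
def dw (s : List Bool) : List Bool := s.flatMap fun b => if b then wWord else [false]

/-- The three points of the triangle. -/
def pOne : List Bool := kOne ++ [true, true]

/-- The second point of the triangle. -/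
def pTwo : List Bool := kOne ++ [true]

/-- The moving point of the second relation. -/
def pA : List Bool := kTwo ++ uWord

/-- The involution of the second relation. -/
def nWord : List Bool := uWord ++ uWord

/-- The entry of a list of words. -/
def at' (L : List (List Bool)) (i : ℕ) : List Bool := L.getD i []

/-- The translation reversing the triangle. -/
def gRev : List Bool := winv pOne ++ (dw (at' revD 0) ++ kOne)

/-- The translation exchanging two points. -/
def gB : List Bool := dw dG ++ pA

/-- The translation of the triangle to the first two points. -/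
def hA : List Bool := winv pOne ++ dw dA

/-- The third point of the translated triangle. -/
def pTwenty : List Bool := kOne ++ hA

/-- The second translation of the triangle. -/
def hB : List Bool := winv pOne ++ (dw dB ++ pTwenty)

/-- The translation of the triangle into the second suborbit. -/
def hC : List Bool := winv pOne ++ (dw dThree ++ pA)

/-- An element moving the pair. -/
def dP (i : ℕ) : List Bool := dw (at' dPts i)

/-- The conjugate of the involution by such an element. -/
def nP (i : ℕ) : List Bool := winv (dP i) ++ nWord ++ dP i

/-- The first image point. -/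
def qOne : List Bool := kTwo ++ dP 0 ++ (nP 1 ++ nP 2)

/-- The second image point. -/
def qTwo : List Bool := kTwo ++ dP 1 ++ nP 2

/-- The third image point. -/
def qThree : List Bool := kTwo ++ dP 2

/-- The translation of the triangle onto the image points. -/
def hD : List Bool := winv pOne ++ (dw (at' rImg 0) ++ qOne)

theorem rel_xx : ev [false, false] = ev [] := by decide +kernel

theorem rel_yyy : ev [true, true, true] = ev [] := by decide +kernel

theorem rel_xw : ev (dw (List.replicate 21 [false, true]).flatten) = ev [] := by decide +kernel

theorem rel_wFour : ev (wWord ++ wWord ++ wWord ++ wWord) = ev [] := by decide +kernel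

theorem rel_u : ev uWord = ev (dw uD) := by decide +kernel

theorem rel_n : ev nWord = ev (dw [true, true]) := by decide +kernel

theorem rel_n_sq : ev (nWord ++ nWord) = ev [] := by decide +kernel

theorem rel_rev : (ev (pOne ++ gRev) = ev (dw (at' revD 0) ++ kOne) ∧
    ev (pTwo ++ gRev) = ev (dw (at' revD 1) ++ pTwo)) ∧
    ev (kOne ++ gRev) = ev (dw (at' revD 2) ++ pOne) := by decide +kernel

theorem rel_gB : ev (nWord ++ gB) = ev (gB ++ nWord) ∧ ev (pA ++ gB) = ev (dw dTwo) := by
  decide +kernel

theorem rel_hA : ev (pOne ++ hA) = ev (dw dA) ∧ ev (pTwo ++ hA) = ev (dw rA ++ (kTwo ++ gB)) := by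
  decide +kernel

theorem rel_hB : ev (pOne ++ hB) = ev (dw dB ++ pTwenty) ∧ ev (pTwo ++ hB) = ev (dw rB ++ pA) ∧
    ev (kOne ++ hB) = ev (dw rC ++ kTwo) := by decide +kernel

theorem rel_hC : ev (pA ++ dP 0) = ev (dw (at' rPts 0) ++ (pOne ++ hC)) ∧
    ev (pA ++ dP 1) = ev (dw (at' rPts 1) ++ (pTwo ++ hC)) ∧
    ev (pA ++ dP 2) = ev (dw (at' rPts 2) ++ (kOne ++ hC)) ∧
    ev (nP 0 ++ (nP 1 ++ nP 2)) = ev [] := by decide +kernel

theorem rel_hD : ev (pOne ++ hD) = ev (dw (at' rImg 0) ++ qOne) ∧
    ev (pTwo ++ hD) = ev (dw (at' rImg 1) ++ qTwo) ∧
    ev (kOne ++ hD) = ev (dw (at' rImg 2) ++ qThree) := by decide +kernel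

theorem rel_fix : ev (kTwo ++ nWord) = ev (dw rFix ++ kTwo) := by decide +kernel

end Cfsg.Agent.H40.J4
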